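import Groth.Prelude.Def_W4sga3xxiRoot
import Groth.Agent.Sga3A.Weyl
import Mathlib.LinearAlgebra.RootSystem.Finite.Nondegenerate

/-!
# Simple systems (conditions on roots only) of a finite root pairing over `ℤ`

Non-reduced pairings are allowed.  Coordinates along a simple system, positivity, behaviour of positive
roots under simple reflections, induction principle, generation of the Weyl group.
-/

set_option autoImplicit false

open RootPairing Groth.Agent.Sga3A.Weyl

namespace K222.Simple

variable {ι M N : Type*} [AddCommGroup M] [AddCommGroup N] (P : RootPairing ι ℤ M N)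

/-! ### The root form -/

section Form

include P in
theorem isReflexive : Module.IsReflexive ℤ M := .of_isPerfPair P.toLinearMap

include P in
theorem torsionFree : IsAddTorsionFree M :=
  have := isReflexive P
  .of_isTorsionFree ℤ M

include P in
theorem torsionFree' : IsAddTorsionFree N := torsionFree P.flip

theorem pairingIn_eq (i j : ι) : P.pairingIn ℤ i j = P.pairing i j := by
  simpa using P.algebraMap_pairingIn ℤ i j

variable [Fintype ι]

/-- `2 (α, x) = (α, α) ⟨x, α^∨⟩`. -/
theorem two_mul_form (i : ι) (x : M) :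
    2 * P.RootForm (P.root i) x = P.RootForm (P.root i) (P.root i) * P.coroot' i x := by
  have h := congrArg (fun n => P.toLinearMap x n) (P.rootForm_self_smul_coroot i)
  simp only [map_smul, smul_eq_mul] at h
  have h2 : P.toLinearMap x (P.Polarization (P.root i)) = P.RootForm (P.root i) x :=
    P.toLinearMap_apply_apply_Polarization _ _
  have h3 : P.toLinearMap x (2 • P.Polarization (P.root i)) = 2 * P.RootForm (P.root i) x := by
    rw [map_nsmul, h2]; simp
  rw [h3] at h
  exact h.symm

theorem form_root_pos (i : ι) : 0 < P.RootForm (P.root i) (P.root i) :=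
  P.rootForm_pos_of_ne_zero (Submodule.subset_span ⟨i, rfl⟩) (P.ne_zero i)

theorem form_symm (x y : M) : P.RootForm x y = P.RootForm y x := by
  simpa using P.rootForm_symmetric.eq x y

theorem form_pos_iff (i : ι) (x : M) : 0 < P.RootForm (P.root i) x ↔ 0 < P.coroot' i x := by
  have h := two_mul_form P i x
  have h1 := form_root_pos P i
  constructor
  · intro h2
    have : 0 < P.RootForm (P.root i) (P.root i) * P.coroot' i x := by rw [← h]; omega
    exact (pos_iff_pos_of_mul_pos this).1 h1
  · intro h2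
    have := mul_pos h1 h2
    rw [← h] at this
    omega

theorem form_nonneg_iff (i : ι) (x : M) : 0 ≤ P.RootForm (P.root i) x ↔ 0 ≤ P.coroot' i x := by
  have h := two_mul_form P i x
  have h1 := form_root_pos P i
  constructor
  · intro h2
    have : 0 ≤ P.RootForm (P.root i) (P.root i) * P.coroot' i x := by rw [← h]; omega
    exact nonneg_of_mul_nonneg_right this h1
  · intro h2
    have := mul_nonneg h1.le h2
    rw [← h] at this
    omega

end Form

/-! ### Multiples -/

section Multiples

variable [Finite ι]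

omit [Finite ι] in
theorem root_eq_nsmul {i k : ι} {n : ℤ} (h : P.root k = n • P.root i) : n = 1 ∨ n = 2 ∨ n = -1 ∨ n = -2 := by
  have h1 : P.pairing k k = n * P.pairing i k := by
    simp only [← P.root_coroot_eq_pairing k k, h, map_smul, LinearMap.smul_apply, smul_eq_mul,
      P.root_coroot_eq_pairing]
  rw [P.pairing_same] at h1
  have h2 : n ∣ 2 := ⟨_, h1⟩
  have h3 := Int.natAbs_dvd_natAbs.2 h2
  have h4 : n.natAbs ≤ 2 := Nat.le_of_dvd (by norm_num) h3
  have h5 : n ≠ 0 := by rintro rfl; simp at h1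
  omega

theorem coroot_of_root_eq {i k : ι} (h : P.root k = (2 : ℤ) • P.root i) :
    P.coroot i = (2 : ℤ) • P.coroot k := by
  have := torsionFree P
  have := torsionFree' P
  exact (smul_coroot_eq_of_root_eq_smul i k 2 h).symm

theorem reflection_eq_of_root_eq {i k : ι} (h : P.root k = (2 : ℤ) • P.root i) :
    Equiv.reflection P k = Equiv.reflection P i := by
  apply Equiv.weightHom_injective P
  ext m
  change Equiv.reflection P k • m = Equiv.reflection P i • m
  rw [Equiv.reflection_smul, Equiv.reflection_smul, reflection_apply, reflection_apply,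
    coroot', coroot', coroot_of_root_eq P h, h, map_smul, smul_smul, LinearMap.smul_apply, smul_eq_mul, mul_comm]

end Multiples

/-! ### The Weyl group and `IsIndiv` -/

theorem isIndiv_smul (g : P.Aut) (i : ι) : RootD.IsIndiv P (g • i) ↔ RootD.IsIndiv P i := by
  have key : ∀ (g : P.Aut) (i : ι), RootD.IsIndiv P i → RootD.IsIndiv P (g • i) := by
    intro g i h j hj
    apply h (g⁻¹ • j)
    rw [root_smul, smul_comm, hj, root_smul, inv_smul_smul]
  refine ⟨fun h => ?_, key g i⟩
  have := key g⁻¹ _ h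
  rwa [inv_smul_smul] at this

theorem isIndiv_neg (i : ι) : RootD.IsIndiv P (P.reflectionPerm i i) ↔ RootD.IsIndiv P i :=
  isIndiv_smul P (Equiv.reflection P i) i

theorem reflectionPerm_neg (i j : ι) :
    P.reflectionPerm i (P.reflectionPerm j j) =
      P.reflectionPerm (P.reflectionPerm i j) (P.reflectionPerm i j) :=
  smul_neg_idx P (Equiv.reflection P i) j

theorem reflectionPerm_neg_neg (k : ι) :
    P.reflectionPerm (P.reflectionPerm k k) (P.reflectionPerm k k) = k := by
  rw [← reflectionPerm_neg, P.reflectionPerm_self]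

/-- A divisible root is twice an indivisible one. -/
theorem exists_indiv [Finite ι] {k : ι} (h : ¬ RootD.IsIndiv P k) :
    ∃ j, RootD.IsIndiv P j ∧ P.root k = (2 : ℤ) • P.root j := by
  unfold RootD.IsIndiv at h
  push Not at h
  obtain ⟨j, hj⟩ := h
  refine ⟨j, fun l hl => ?_, hj.symm⟩
  rw [← hl, smul_smul] at hj
  have := root_eq_nsmul P hj.symm
  norm_num at this

/-! ### Coordinates along a simple system -/

section Sys

variable {P} {Δ : Set ι}

theorem simple_mem_posOf {j : ι} (hj : j ∈ Δ) : j ∈ RootD.posOf P Δ :=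
  AddSubmonoid.subset_closure ⟨j, hj, rfl⟩

theorem support_single_subset' {j : ι} (hj : j ∈ Δ) (n : ℤ) : ((Finsupp.single j n).support : Set ι) ⊆ Δ := by
  intro i hi
  have := Finsupp.support_single_subset hi
  rw [Finset.mem_singleton] at this
  exact this ▸ hj

theorem sub_supp {c d : ι →₀ ℤ} (hc : (c.support : Set ι) ⊆ Δ) (hd : (d.support : Set ι) ⊆ Δ) :
    ((c - d).support : Set ι) ⊆ Δ :=
  (Finsupp.mem_supported ℤ _).1 (Submodule.sub_mem _ ((Finsupp.mem_supported ℤ c).2 hc)
    ((Finsupp.mem_supported ℤ d).2 hd))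

theorem mem_natSpan_iff (m : M) : m ∈ RootD.natSpan P Δ ↔
    ∃ c : ι →₀ ℤ, (c.support : Set ι) ⊆ Δ ∧ 0 ≤ c ∧ Finsupp.linearCombination ℤ P.root c = m := by
  constructor
  · intro hm
    refine AddSubmonoid.closure_induction ?_ ⟨0, by simp, le_rfl, by simp⟩ ?_ hm
    · rintro _ ⟨j, hj, rfl⟩
      refine ⟨Finsupp.single j 1, ?_, ?_, by simp⟩
      · intro i hi
        have := Finsupp.support_single_subset hi
        rw [Finset.mem_singleton] at this
        exact this ▸ hj
      · intro i
        by_cases h : j = i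
        · subst h; simp
        · simp [Finsupp.single_eq_of_ne' h]
    · rintro x y _ _ ⟨c, hc, hc0, rfl⟩ ⟨d, hd, hd0, rfl⟩
      refine ⟨c + d, ?_, add_nonneg hc0 hd0, by simp⟩
      intro i hi
      by_contra hiΔ
      have h1 : c i = 0 := by
        by_contra h; exact hiΔ (hc (Finsupp.mem_support_iff.2 h))
      have h2 : d i = 0 := by
        by_contra h; exact hiΔ (hd (Finsupp.mem_support_iff.2 h))
      exact (Finsupp.mem_support_iff.1 hi) (by rw [Finsupp.add_apply, h1, h2, add_zero])
  · rintro ⟨c, hc, hc0, rfl⟩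
    rw [Finsupp.linearCombination_apply, Finsupp.sum]
    refine AddSubmonoid.sum_mem _ fun i hi => ?_
    obtain ⟨n, hn⟩ := Int.eq_ofNat_of_zero_le (hc0 i)
    rw [hn, natCast_zsmul]
    have h : P.root i ∈ RootD.natSpan P Δ := AddSubmonoid.subset_closure ⟨i, hc hi, rfl⟩
    exact AddSubmonoid.nsmul_mem _ h n

theorem exists_cf (hΔ : RootD.IsSimpleSys P Δ) (k : ι) :
    ∃ c : ι →₀ ℤ, (c.support : Set ι) ⊆ Δ ∧ (0 ≤ c ∨ c ≤ 0) ∧
      Finsupp.linearCombination ℤ P.root c = P.root k := by
  rcases hΔ.mem_or_neg_mem k with h | h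
  · obtain ⟨c, hc, hc0, h⟩ := (mem_natSpan_iff _).1 h
    exact ⟨c, hc, Or.inl hc0, h⟩
  · obtain ⟨c, hc, hc0, h⟩ := (mem_natSpan_iff _).1 h
    exact ⟨-c, by simpa using hc, Or.inr (by simpa using hc0), by simp [h]⟩

/-- The coordinates of the root of index `k` along a simple system. -/
noncomputable def cf (hΔ : RootD.IsSimpleSys P Δ) (k : ι) : ι →₀ ℤ := (exists_cf hΔ k).choose

variable (hΔ : RootD.IsSimpleSys P Δ)

include hΔ

theorem cf_supp (k : ι) : ((cf hΔ k).support : Set ι) ⊆ Δ := (exists_cf hΔ k).choose_spec.1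

theorem cf_sign (k : ι) : 0 ≤ cf hΔ k ∨ cf hΔ k ≤ 0 := (exists_cf hΔ k).choose_spec.2.1

theorem cf_spec (k : ι) : Finsupp.linearCombination ℤ P.root (cf hΔ k) = P.root k :=
  (exists_cf hΔ k).choose_spec.2.2

theorem cf_eq_zero_of_notMem {k j : ι} (hj : j ∉ Δ) : cf hΔ k j = 0 := by
  by_contra h
  exact hj (cf_supp hΔ k (Finsupp.mem_support_iff.2 h))

theorem comb_unique {c d : ι →₀ ℤ} (hc : (c.support : Set ι) ⊆ Δ) (hd : (d.support : Set ι) ⊆ Δ)
    (h : Finsupp.linearCombination ℤ P.root c = Finsupp.linearCombination ℤ P.root d) : c = d := by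
  have h1 := linearIndepOn_iff.1 hΔ.linInd (c - d)
    (Submodule.sub_mem _ ((Finsupp.mem_supported ℤ c).2 hc) ((Finsupp.mem_supported ℤ d).2 hd))
    (by rw [map_sub, h, sub_self])
  exact sub_eq_zero.1 h1

theorem cf_unique {c : ι →₀ ℤ} {k : ι} (hc : (c.support : Set ι) ⊆ Δ)
    (h : Finsupp.linearCombination ℤ P.root c = P.root k) : cf hΔ k = c :=
  comb_unique hΔ (cf_supp hΔ k) hc (by rw [cf_spec, h])

theorem cf_ne_zero (k : ι) : cf hΔ k ≠ 0 := by
  intro h
  have := cf_spec hΔ k
  rw [h, map_zero] at this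
  exact P.ne_zero k this.symm

theorem mem_posOf_iff (k : ι) : k ∈ RootD.posOf P Δ ↔ 0 ≤ cf hΔ k := by
  constructor
  · intro hk
    obtain ⟨c, hc, hc0, h⟩ := (mem_natSpan_iff _).1 (show P.root k ∈ RootD.natSpan P Δ from hk)
    rw [cf_unique hΔ hc h]
    exact hc0
  · intro h
    exact (mem_natSpan_iff _).2 ⟨_, cf_supp hΔ k, h, cf_spec hΔ k⟩

theorem mem_posOf_of_coeff_pos {k j : ι} (h : 0 < cf hΔ k j) : k ∈ RootD.posOf P Δ := by
  rw [mem_posOf_iff hΔ]
  refine (cf_sign hΔ k).resolve_right fun h' => ?_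
  exact absurd (h' j) (not_le.2 h)

theorem exists_coeff_pos {k : ι} (hk : k ∈ RootD.posOf P Δ) : ∃ j ∈ Δ, 0 < cf hΔ k j := by
  by_contra hcon
  push Not at hcon
  apply cf_ne_zero hΔ k
  ext j
  have h0 : 0 ≤ cf hΔ k j := (mem_posOf_iff hΔ k).1 hk j
  by_cases hj : j ∈ Δ
  · exact le_antisymm (hcon j hj) h0
  · exact cf_eq_zero_of_notMem hΔ hj

theorem cf_neg (k : ι) : cf hΔ (P.reflectionPerm k k) = -cf hΔ k := by
  apply cf_unique hΔ
  · simpa using cf_supp hΔ k
  · rw [map_neg, cf_spec]; simp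

theorem neg_notMem_posOf {k : ι} (hk : k ∈ RootD.posOf P Δ) : P.reflectionPerm k k ∉ RootD.posOf P Δ := by
  intro h
  obtain ⟨j, -, hj⟩ := exists_coeff_pos hΔ hk
  have := (mem_posOf_iff hΔ _).1 h j
  rw [cf_neg, Finsupp.neg_apply] at this
  simp only [Finsupp.coe_zero, Pi.zero_apply] at this
  omega

theorem pos_or_neg (k : ι) : k ∈ RootD.posOf P Δ ∨ P.reflectionPerm k k ∈ RootD.posOf P Δ := by
  rw [mem_posOf_iff hΔ, mem_posOf_iff hΔ, cf_neg, le_neg, neg_zero]
  exact cf_sign hΔ k

theorem neg_mem_posOf_iff (k : ι) : P.reflectionPerm k k ∈ RootD.posOf P Δ ↔ k ∉ RootD.posOf P Δ := by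
  constructor
  · intro h h'
    exact neg_notMem_posOf hΔ h' h
  · intro h
    exact (pos_or_neg hΔ k).resolve_left h

theorem cf_simple {j : ι} (hj : j ∈ Δ) : cf hΔ j = Finsupp.single j 1 := by
  apply cf_unique hΔ (support_single_subset' hj 1)
  simp

theorem cf_reflection {i : ι} (hi : i ∈ Δ) (k : ι) :
    cf hΔ (P.reflectionPerm i k) = cf hΔ k - Finsupp.single i (P.pairing k i) := by
  apply cf_unique hΔ
  · exact sub_supp (cf_supp hΔ k) (support_single_subset' hi _)
  · rw [map_sub, cf_spec, Finsupp.linearCombination_single, P.root_reflectionPerm, P.reflection_apply_root]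

theorem cf_reflection_apply_of_ne {i : ι} (hi : i ∈ Δ) (k : ι) {j : ι} (hj : j ≠ i) :
    cf hΔ (P.reflectionPerm i k) j = cf hΔ k j := by
  rw [cf_reflection hΔ hi, Finsupp.sub_apply, Finsupp.single_eq_of_ne hj, sub_zero]

/-- A positive root is either proportional to the simple root `i` (and then equal to it or twice it), or
its image under the simple reflection is positive. -/
theorem reflection_pos_or [Finite ι] {i : ι} (hi : i ∈ Δ) {k : ι} (hk : k ∈ RootD.posOf P Δ) :
    P.reflectionPerm i k ∈ RootD.posOf P Δ ∨ (k = i ∨ P.root k = (2 : ℤ) • P.root i) := by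
  by_cases h : ∃ j, j ≠ i ∧ 0 < cf hΔ k j
  · obtain ⟨j, hj, hj'⟩ := h
    left
    apply mem_posOf_of_coeff_pos hΔ (j := j)
    rw [cf_reflection_apply_of_ne hΔ hi k hj]
    exact hj'
  · right
    push Not at h
    have h0 := (mem_posOf_iff hΔ k).1 hk
    have h1 : cf hΔ k = Finsupp.single i (cf hΔ k i) := by
      ext j
      by_cases hj : j = i
      · subst hj; simp
      · rw [Finsupp.single_eq_of_ne hj]
        exact le_antisymm (h j hj) (h0 j)
    have h2 : P.root k = (cf hΔ k i) • P.root i := by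
      conv_lhs => rw [← cf_spec hΔ k, h1]
      simp
    have h3 : 0 ≤ cf hΔ k i := h0 i
    rcases root_eq_nsmul P h2 with h4 | h4 | h4 | h4
    · left
      rw [h4, one_smul] at h2
      exact P.root.injective h2
    · right
      rw [h4] at h2
      exact h2
    · omega
    · omega

theorem reflection_pos_of_indiv [Finite ι] {i : ι} (hi : i ∈ Δ) {k : ι} (hk : k ∈ RootD.posOf P Δ)
    (hki : k ≠ i) (hind : RootD.IsIndiv P k) : P.reflectionPerm i k ∈ RootD.posOf P Δ := by
  rcases reflection_pos_or hΔ hi hk with h | h | h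
  · exact h
  · exact absurd h hki
  · exact absurd h.symm (hind i)

theorem reflection_notMem_iff [Finite ι] {i : ι} (hi : i ∈ Δ) {k : ι} (hk : k ∈ RootD.posOf P Δ) :
    P.reflectionPerm i k ∉ RootD.posOf P Δ ↔ (k = i ∨ P.root k = (2 : ℤ) • P.root i) := by
  constructor
  · intro h
    exact (reflection_pos_or hΔ hi hk).resolve_left h
  · rintro (rfl | h) h'
    · exact neg_notMem_posOf hΔ hk h'
    · have e : P.reflectionPerm i k = P.reflectionPerm k k := by
        have := congrArg (fun g : P.Aut => g • k) (reflection_eq_of_root_eq P h)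
        exact this.symm
      rw [e] at h'
      exact neg_notMem_posOf hΔ hk h'

/-- Simple roots are indivisible. -/
theorem isIndiv_simple {i : ι} (hi : i ∈ Δ) : RootD.IsIndiv P i := by
  intro j hj
  have h2 : Finsupp.linearCombination ℤ P.root ((2 : ℤ) • cf hΔ j) = P.root i := by
    rw [map_smul, cf_spec, hj]
  have h3 : (((2 : ℤ) • cf hΔ j).support : Set ι) ⊆ Δ :=
    (Finsupp.mem_supported ℤ _).1 (Submodule.smul_mem _ _ ((Finsupp.mem_supported ℤ _).2 (cf_supp hΔ j)))
  have h4 := cf_unique hΔ h3 h2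
  rw [cf_simple hΔ hi] at h4
  have h5 := congrArg (fun c : ι →₀ ℤ => c i) h4
  simp only [Finsupp.single_eq_same, Finsupp.smul_apply, smul_eq_mul] at h5
  omega

/-- The height of the root of index `k`: the sum of its coordinates. -/
noncomputable def ht (k : ι) : ℤ := Finsupp.linearCombination ℤ (fun _ : ι => (1 : ℤ)) (cf hΔ k)

theorem ht_eq_sum (k : ι) : ht hΔ k = ∑ j ∈ (cf hΔ k).support, cf hΔ k j := by
  rw [ht, Finsupp.linearCombination_apply, Finsupp.sum]; simp

theorem ht_pos {k : ι} (hk : k ∈ RootD.posOf P Δ) : 0 < ht hΔ k := by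
  rw [ht_eq_sum]
  obtain ⟨j, -, hj⟩ := exists_coeff_pos hΔ hk
  refine Finset.sum_pos' (fun i _ => (mem_posOf_iff hΔ k).1 hk i) ⟨j, ?_, hj⟩
  exact Finsupp.mem_support_iff.2 hj.ne'

theorem ht_reflection {i : ι} (hi : i ∈ Δ) (k : ι) :
    ht hΔ (P.reflectionPerm i k) = ht hΔ k - P.pairing k i := by
  rw [ht, cf_reflection hΔ hi, map_sub, Finsupp.linearCombination_single, ht]; simp

/-- For a positive root there is a simple root pairing positively with it. -/
theorem exists_simple_pairing_pos [Finite ι] {k : ι} (hk : k ∈ RootD.posOf P Δ) :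
    ∃ i ∈ Δ, 0 < cf hΔ k i ∧ 0 < P.pairing k i := by
  let := Fintype.ofFinite ι
  by_contra hcon
  push Not at hcon
  have h1 := form_root_pos P k
  have h2 : P.RootForm (P.root k) (P.root k) ≤ 0 := by
    have h0 : P.RootForm (P.root k) (P.root k) =
        P.RootForm (P.root k) (Finsupp.linearCombination ℤ P.root (cf hΔ k)) := by rw [cf_spec hΔ k]
    rw [h0, Finsupp.linearCombination_apply, Finsupp.sum, map_sum]
    refine Finset.sum_nonpos fun i hi => ?_
    rw [map_smul, smul_eq_mul, form_symm]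
    have h3 : 0 ≤ cf hΔ k i := (mem_posOf_iff hΔ k).1 hk i
    have h4 : 0 < cf hΔ k i := lt_of_le_of_ne h3 (Ne.symm (Finsupp.mem_support_iff.1 hi))
    have h5 := hcon i (cf_supp hΔ k hi) h4
    have h6 : ¬ 0 < P.RootForm (P.root i) (P.root k) := by
      rw [form_pos_iff, P.root_coroot'_eq_pairing]
      exact not_lt.2 h5
    exact mul_nonpos_of_nonneg_of_nonpos h3 (not_lt.1 h6)
  omega

/-- Induction over positive indivisible roots. -/
theorem pos_induction [Finite ι] {p : ι → Prop} (h₁ : ∀ i ∈ Δ, p i)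
    (h₂ : ∀ k, ∀ i ∈ Δ, p k → p (P.reflectionPerm i k)) {k : ι} (hk : k ∈ RootD.posOf P Δ)
    (hind : RootD.IsIndiv P k) : p k := by
  obtain ⟨n, hn⟩ : ∃ n : ℕ, (ht hΔ k).toNat = n := ⟨_, rfl⟩
  induction n using Nat.strong_induction_on generalizing k with
  | _ n ih =>
    by_cases hkΔ : k ∈ Δ
    · exact h₁ k hkΔ
    obtain ⟨i, hi, -, hpos⟩ := exists_simple_pairing_pos hΔ hk
    have hne : k ≠ i := fun h => hkΔ (h ▸ hi)
    have h3 := reflection_pos_of_indiv hΔ hi hk hne hind
    have h4 := ht_reflection hΔ hi k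
    have h5 := ht_pos hΔ h3
    have h6 := ih (ht hΔ (P.reflectionPerm i k)).toNat (by omega) h3
      ((isIndiv_smul P (Equiv.reflection P i) k).2 hind) rfl
    have h7 := h₂ _ i hi h6
    rwa [P.reflectionPerm_self] at h7

/-- Induction over indivisible roots. -/
theorem indiv_induction [Finite ι] {p : ι → Prop} (h₁ : ∀ i ∈ Δ, p i)
    (h₂ : ∀ k, ∀ i ∈ Δ, p k → p (P.reflectionPerm i k)) {k : ι}
    (hind : RootD.IsIndiv P k) : p k := by
  have key : ∀ k, k ∈ RootD.posOf P Δ → RootD.IsIndiv P k → p k ∧ p (P.reflectionPerm k k) := by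
    intro k hk hind
    refine pos_induction hΔ (p := fun k => p k ∧ p (P.reflectionPerm k k)) ?_ ?_ hk hind
    · intro i hi
      exact ⟨h₁ i hi, h₂ i i hi (h₁ i hi)⟩
    · rintro k i hi ⟨h, h'⟩
      refine ⟨h₂ k i hi h, ?_⟩
      rw [← reflectionPerm_neg]
      exact h₂ _ i hi h'
  rcases pos_or_neg hΔ k with h | h
  · exact (key k h hind).1
  · have := (key _ h ((isIndiv_neg P k).2 hind)).2
    rwa [reflectionPerm_neg_neg] at this

/-- Every indivisible root is conjugate to a simple one under the group generated by the simple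
reflections. -/
theorem exists_conj [Finite ι] {k : ι} (hind : RootD.IsIndiv P k) :
    ∃ g ∈ Subgroup.closure ((fun i : ι => Equiv.reflection P i) '' Δ), ∃ j ∈ Δ, g • j = k := by
  set H := Subgroup.closure ((fun i : ι => Equiv.reflection P i) '' Δ) with hH
  have hmem : ∀ j ∈ Δ, Equiv.reflection P j ∈ H := fun j hj => Subgroup.subset_closure ⟨j, hj, rfl⟩
  refine indiv_induction hΔ (p := fun k => ∃ g ∈ H, ∃ j ∈ Δ, g • j = k) ?_ ?_ hind
  · intro i hi
    exact ⟨1, H.one_mem, i, hi, one_smul _ _⟩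
  · rintro k i hi ⟨g, hg, j, hj, rfl⟩
    exact ⟨Equiv.reflection P i * g, H.mul_mem (hmem i hi) hg, j, hj, by
      rw [mul_smul, reflection_smul_idx]⟩

/-- The simple reflections generate the Weyl group. -/
theorem closure_simple [Finite ι] :
    Subgroup.closure ((fun i : ι => Equiv.reflection P i) '' Δ) = P.weylGroup := by
  apply le_antisymm
  · rw [Subgroup.closure_le]
    rintro _ ⟨i, -, rfl⟩
    exact P.reflection_mem_weylGroup i
  · rw [weylGroup, Subgroup.closure_le]
    rintro _ ⟨i, rfl⟩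
    have key : ∀ i, RootD.IsIndiv P i → Equiv.reflection P i ∈
        Subgroup.closure ((fun i : ι => Equiv.reflection P i) '' Δ) := by
      intro i hi
      obtain ⟨g, hg, j, hj, rfl⟩ := exists_conj hΔ hi
      rw [← conj_reflection]
      exact Subgroup.mul_mem _ (Subgroup.mul_mem _ hg (Subgroup.subset_closure ⟨j, hj, rfl⟩))
        (Subgroup.inv_mem _ hg)
    by_cases hi : RootD.IsIndiv P i
    · exact key i hi
    · obtain ⟨j, hj, h⟩ := exists_indiv P hi
      rw [SetLike.mem_coe, reflection_eq_of_root_eq P h]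
      exact key j hj

end Sys

end K222.Simple
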