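import Groth.Agent.RootD.K222.Lattice
import Groth.Agent.RootD.K222.Simple
import Groth.Agent.RootD.K219.Pos

/-!
# Presentation of the lattice generated by the coroots
-/

set_option autoImplicit false

open RootPairing

namespace K222.CorootPres

variable {ι R M N : Type*} [CommRing R] [IsDomain R] [CharZero R]
    [AddCommGroup M] [Module R M] [AddCommGroup N] [Module R N] (P : RootPairing ι R M N)
    [Finite ι] [P.IsCrystallographic]

/-- The span of the relations. -/
noncomputable def rel : Submodule ℤ (ι →₀ ℤ) := Submodule.span ℤ (Set.range fun p : ι × ι =>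
        Finsupp.single (P.reflectionPerm p.1 p.2) (1 : ℤ) - Finsupp.single p.2 1 +
          P.pairingIn ℤ p.1 p.2 • Finsupp.single p.1 1)

omit [IsDomain R] [CharZero R] [Finite ι] in
theorem rel_mem (i j : ι) : Finsupp.single (P.reflectionPerm i j) (1 : ℤ) - Finsupp.single j 1 +
          P.pairingIn ℤ i j • Finsupp.single i 1 ∈ rel P := Submodule.subset_span ⟨(i, j), rfl⟩

omit [IsDomain R] [CharZero R] [Finite ι] in
theorem rel_le_ker : rel P ≤ LinearMap.ker (Finsupp.linearCombination ℤ (fun i : ι => (P.coroot i : N))) := by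
  rw [rel, Submodule.span_le]
  rintro _ ⟨⟨i, j⟩, rfl⟩
  rw [SetLike.mem_coe, LinearMap.mem_ker]
  simp only [map_add, map_sub, map_smul, Finsupp.linearCombination_single, one_smul,
    P.coroot_reflectionPerm, P.coreflection_apply_coroot]
  rw [← P.algebraMap_pairingIn ℤ, algebraMap_smul]
  abel

omit [IsDomain R] [CharZero R] [Finite ι] in
theorem step {S : Submodule ℤ (ι →₀ ℤ)} (hS : rel P ≤ S) {i j : ι} (hi : Finsupp.single i (1 : ℤ) ∈ S)
    (hj : Finsupp.single j (1 : ℤ) ∈ S) : Finsupp.single (P.reflectionPerm j i) (1 : ℤ) ∈ S := by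
  have h := S.sub_mem (S.add_mem (hS (rel_mem P j i)) hi) (S.smul_mem (P.pairingIn ℤ j i) hj)
  have e : Finsupp.single (P.reflectionPerm j i) (1 : ℤ) = Finsupp.single (P.reflectionPerm j i) (1 : ℤ) -
    Finsupp.single i 1 + P.pairingIn ℤ j i • Finsupp.single j 1 + Finsupp.single i 1 -
    P.pairingIn ℤ j i • Finsupp.single j 1 := by abel
  rw [e]; exact h

theorem isIndiv [P.IsReduced] (i : ι) : RootD.IsIndiv (Lattice.latt P.flip) i := by
  intro j hj
  have h0 := Lattice.isReflexive P
  have h0' := Lattice.isReflexive P.flip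
  have h1 := Lattice.torsionFree P.flip
  have h2 : (2 : ℕ) • P.flip.root j = P.flip.root i := by
    have := congrArg (Submodule.subtype _) hj
    rw [map_smul] at this
    have h3 : (2 : ℤ) • P.flip.root j = P.flip.root i := this
    rw [← h3, two_zsmul, two_nsmul]
  exact P.flip.nsmul_notMem_range_root (n := 2) ⟨i, h2.symm⟩

theorem ker_eq [P.IsReduced] :
    LinearMap.ker (Finsupp.linearCombination ℤ (fun i : ι => (P.coroot i : N))) = rel P := by
  refine le_antisymm ?_ (rel_le_ker P)
  obtain ⟨S₀, hS₀⟩ := K219.Pos.exists_posSys (P := Lattice.latt P.flip)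
  obtain ⟨Δ, ⟨hΔ, -⟩, -⟩ := K219.Pos.existsUnique_simple hS₀
  set T : Submodule ℤ (ι →₀ ℤ) := Finsupp.supported ℤ ℤ Δ with hT
  have hsingle : ∀ i, Finsupp.single i (1 : ℤ) ∈ rel P ⊔ T := by
    intro i
    refine Simple.indiv_induction hΔ (p := fun i => Finsupp.single i (1 : ℤ) ∈ rel P ⊔ T) ?_ ?_
      (isIndiv P i)
    · intro i hi
      exact (le_sup_right : T ≤ _) (Finsupp.single_mem_supported ℤ _ hi)
    · intro k i hi hk
      exact step P le_sup_left hk ((le_sup_right : T ≤ _) (Finsupp.single_mem_supported ℤ _ hi))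
  intro x hx
  have hxT : x ∈ rel P ⊔ T := by
    rw [← Finsupp.sum_single x]
    refine Submodule.sum_mem _ fun i _ => ?_
    have := (rel P ⊔ T).smul_mem (x i) (hsingle i)
    rwa [Finsupp.smul_single, smul_eq_mul, mul_one] at this
  obtain ⟨r, hr, t, ht, rfl⟩ := Submodule.mem_sup.1 hxT
  have ht' : Finsupp.linearCombination ℤ (fun i : ι => (P.coroot i : N)) t = 0 := by
    rw [LinearMap.mem_ker, map_add, LinearMap.mem_ker.1 (rel_le_ker P hr), zero_add] at hx
    exact hx
  have h1 : Finsupp.linearCombination ℤ (Lattice.latt P.flip).root t = 0 := by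
    apply Subtype.ext
    rw [← Submodule.subtype_apply, Finsupp.linearCombination_apply, Finsupp.sum, map_sum, Submodule.coe_zero,
      ← ht', Finsupp.linearCombination_apply, Finsupp.sum]
    rfl
  have h2 := linearIndepOn_iff.1 hΔ.linInd t ht h1
  rw [h2, add_zero]
  exact hr

end K222.CorootPres
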