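import Groth.Agent.RootD.K222.Words
import Groth.Agent.RootD.K219.Pos

/-!
# Dominant homomorphisms and dominant weights
-/

set_option autoImplicit false

open RootPairing Groth.Agent.Sga3A.Weyl K222.Simple K222.Words

namespace K222.Dom

variable {ι M N : Type*} [AddCommGroup M] [AddCommGroup N] {P : RootPairing ι ℤ M N} {Δ : Set ι}

theorem exists_simple [Finite ι] {S : Set ι} (hS : RootD.IsPosSys P S) :
    ∃ Δ : Set ι, RootD.IsSimpleSys P Δ ∧ RootD.posOf P Δ = S := by
  obtain ⟨Δ, ⟨h1, h2⟩, -⟩ := K219.Pos.existsUnique_simple hS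
  exact ⟨Δ, h1, K219.Pos.posOf_eq_of_subset h1 hS h2⟩

section Hom

variable {Γ : Type*} [AddCommGroup Γ] [LinearOrder Γ] [IsOrderedAddMonoid Γ] (f : M →+ Γ)

theorem nonneg_of_simple (h : ∀ j ∈ Δ, 0 ≤ f (P.root j)) {k : ι} (hk : k ∈ RootD.posOf P Δ) :
    0 ≤ f (P.root k) := by
  have key : ∀ x ∈ AddSubmonoid.closure (P.root '' Δ), 0 ≤ f x := by
    intro x hx
    induction hx using AddSubmonoid.closure_induction with
    | mem x hx => obtain ⟨j, hj, rfl⟩ := hx; exact h j hj
    | zero => simp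
    | add x y _ _ hx hy => rw [map_add]; exact add_nonneg hx hy
  exact key _ hk

theorem weightHom_apply (g : P.Aut) (m : M) : RootPairing.Equiv.weightHom P g m = g • m := rfl

theorem reflection_smul_eq (j : ι) (m : M) : Equiv.reflection P j • m = m - P.coroot' j m • P.root j := rfl

variable (hΔ : RootD.IsSimpleSys P Δ) [Finite ι]

include hΔ

/-- Part (1) of S19155. -/
theorem exists_dominant : ∃ g ∈ P.weylGroup, ∀ i ∈ RootD.posOf P Δ, 0 ≤ f (g • P.root i) := by
  obtain ⟨g, hg, h⟩ := exists_avoid hΔ {i | f (P.root i) < 0}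
    (by
      intro i hi
      rw [Set.mem_ofPred_eq] at hi ⊢
      rw [P.root_reflectionPerm, P.reflection_apply_self, map_neg, not_lt, Left.nonneg_neg_iff]
      exact hi.le)
    (by
      intro i j hi hj
      rw [Set.mem_ofPred_eq] at hi ⊢
      rw [hj, map_zsmul, two_zsmul]
      exact add_neg hi hi)
  refine ⟨g, hg, fun i hi => ?_⟩
  refine nonneg_of_simple (f.comp (DistribSMul.toAddMonoidHom M g)) (fun j hj => ?_) hi
  have := h j hj
  rw [Set.mem_ofPred_eq, not_lt] at this
  change 0 ≤ f (g • P.root j)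
  rwa [← root_smul]

/-- Part (2) of S19155. -/
theorem fixed {g : P.Aut} (hg : g ∈ P.weylGroup) (h1 : ∀ i ∈ RootD.posOf P Δ, 0 ≤ f (P.root i))
    (h2 : ∀ i ∈ RootD.posOf P Δ, 0 ≤ f (g • P.root i)) (m : M) : f (g • m) = f m := by
  refine weyl_induction hΔ (p := fun g => (∀ i ∈ RootD.posOf P Δ, 0 ≤ f (g • P.root i)) →
    ∀ m, f (g • m) = f m) ?_ ?_ hg h2 m
  · intro _ m
    rw [one_smul]
  · intro w _ j hj hpos ih h m
    have e1 : ∀ m, (w * Equiv.reflection P j) • m = w • m - P.coroot' j m • (w • P.root j) := by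
      intro m
      rw [mul_smul, reflection_smul_eq, smul_sub, smul_comm]
    have h3 : f (w • P.root j) = 0 := by
      apply le_antisymm
      · have := h j (simple_mem_posOf hj)
        rw [e1, P.root_coroot'_eq_pairing, P.pairing_same, two_zsmul, sub_add_cancel_left, map_neg] at this
        simpa using this
      · have := h1 _ hpos
        rwa [root_smul] at this
    have e2 : ∀ m, f ((w * Equiv.reflection P j) • m) = f (w • m) := by
      intro m
      rw [e1, map_sub, map_zsmul, h3, smul_zero, sub_zero]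
    rw [e2]
    refine ih (fun i hi => ?_) m
    rw [← e2]
    exact h i hi

end Hom

section Strong

variable {Γ : Type*} [AddCommGroup Γ] [LinearOrder Γ] [IsOrderedAddMonoid Γ] (f : M →+ Γ)
  (hΔ : RootD.IsSimpleSys P Δ) [Fintype ι]

include hΔ

theorem strong {g : P.Aut} (hg : g ∈ P.weylGroup) (h1 : ∀ i ∈ RootD.posOf P Δ, 0 ≤ f (P.root i)) :
    ∃ c : ι → Γ, (∀ i, 0 ≤ c i) ∧ (∀ i, i ∉ RootD.posOf P Δ → c i = 0) ∧
      ∀ m : M, f m - f (g • m) = ∑ i, (P.coroot' i m) • c i := by
  classical
  refine weyl_induction hΔ (p := fun g => ∃ c : ι → Γ, (∀ i, 0 ≤ c i) ∧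
    (∀ i, i ∉ RootD.posOf P Δ → c i = 0) ∧ ∀ m : M, f m - f (g • m) = ∑ i, (P.coroot' i m) • c i) ?_ ?_ hg
  · exact ⟨0, fun _ => le_rfl, fun _ _ => rfl, fun m => by simp⟩
  · rintro w - j hj hpos ⟨c, hc, hc0, hcm⟩
    refine ⟨c + Pi.single j (f (w • P.root j)), ?_, ?_, ?_⟩
    · intro i
      rw [Pi.add_apply]
      refine add_nonneg (hc i) ?_
      by_cases hij : i = j
      · subst hij
        rw [Pi.single_eq_same, ← root_smul]
        exact h1 _ hpos
      · rw [Pi.single_eq_of_ne hij]
    · intro i hi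
      have hij : i ≠ j := fun h => hi (h ▸ simple_mem_posOf hj)
      rw [Pi.add_apply, hc0 i hi, Pi.single_eq_of_ne hij, add_zero]
    · intro m
      have e1 : (w * Equiv.reflection P j) • m = w • m - P.coroot' j m • (w • P.root j) := by
        rw [mul_smul, reflection_smul_eq, smul_sub, smul_comm]
      have e2 : ∑ i, (P.coroot' i m) • (c + Pi.single j (f (w • P.root j)) : ι → Γ) i =
          ∑ i, (P.coroot' i m) • c i + (P.coroot' j m) • f (w • P.root j) := by
        simp only [Pi.add_apply, smul_add, Finset.sum_add_distrib]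
        congr 1
        rw [Finset.sum_eq_single j]
        · rw [Pi.single_eq_same]
        · intro i _ hij
          rw [Pi.single_eq_of_ne hij, smul_zero]
        · simp
      rw [e2, ← hcm, e1, map_sub, map_zsmul]
      abel

end Strong

section Weight

variable (hΔ : RootD.IsSimpleSys P Δ) [Finite ι]

theorem coroot'_nonneg_of_simple {m : M} (h : ∀ j ∈ Δ, 0 ≤ P.coroot' j m) {k : ι}
    (hk : k ∈ RootD.posOf P Δ) : 0 ≤ P.coroot' k m := by
  let := Fintype.ofFinite ι
  rw [← form_nonneg_iff]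
  have h2 := nonneg_of_simple (P := P) (Δ := Δ) (P.RootForm.flip m).toAddMonoidHom (fun j hj => ?_) hk
  · exact h2
  · exact (form_nonneg_iff P j m).2 (h j hj)

include hΔ

theorem finite_weylGroup : Finite P.weylGroup := by
  refine Finite.of_injective (fun g : P.weylGroup => (MulAction.toPerm (g : P.Aut) : Equiv.Perm ι)) ?_
  intro g h hgh
  have h1 : g⁻¹ * h = 1 := by
    apply Subtype.ext
    refine eq_one_of_simple_pos hΔ (g⁻¹ * h).2 fun j hj => ?_
    have h2 : (g : P.Aut) • j = (h : P.Aut) • j := congrArg (fun e : Equiv.Perm ι => e j) hgh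
    have h3 : ((g⁻¹ * h : P.weylGroup) : P.Aut) • j = j := by
      rw [Subgroup.coe_mul, Subgroup.coe_inv, mul_smul, ← h2, inv_smul_smul]
    rw [h3]
    exact simple_mem_posOf hj
  exact (inv_mul_eq_one.1 h1)

/-- Every weight is conjugate to a dominant one. -/
theorem exists_dominant_weight (m : M) :
    ∃ g ∈ P.weylGroup, ∀ i ∈ RootD.posOf P Δ, 0 ≤ P.coroot' i (g • m) := by
  obtain ⟨g, hg, h⟩ := exists_avoid hΔ {i | P.coroot' i m < 0}
    (by
      intro i hi
      rw [Set.mem_ofPred_eq] at hi ⊢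
      rw [coroot', P.coroot_reflectionPerm, P.coreflection_apply_self, map_neg, LinearMap.neg_apply, not_lt,
        Left.nonneg_neg_iff]
      exact hi.le)
    (by
      intro i j hi hj
      rw [Set.mem_ofPred_eq] at hi ⊢
      rw [coroot', coroot_of_root_eq P hj, map_smul, LinearMap.smul_apply, smul_eq_mul] at hi
      have : 2 * (P.coroot' j) m < 0 := hi
      omega)
  refine ⟨g⁻¹, inv_mem hg, fun i hi => coroot'_nonneg_of_simple (fun j hj => ?_) hi⟩
  have h1 := h j hj
  rw [Set.mem_ofPred_eq, not_lt] at h1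
  have h2 := smul_toLin P g (g⁻¹ • m) j
  rw [smul_inv_smul] at h2
  change 0 ≤ P.toLinearMap (g⁻¹ • m) (P.coroot j)
  rw [← h2]
  exact h1

/-- A positive multiple of the fundamental weight attached to a simple root. -/
theorem exists_fundamental {i : ι} (hi : i ∈ Δ) :
    ∃ m : M, (∀ j ∈ Δ, j ≠ i → P.coroot' j m = 0) ∧ 0 < P.coroot' i m := by
  classical
  let := Fintype.ofFinite ι
  let : Fintype Δ := Fintype.ofFinite Δ
  let G : Matrix Δ Δ ℤ := Matrix.of fun a b => P.RootForm (P.root a) (P.root b)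
  have hli : LinearIndependent ℤ (fun a : ↥Δ => P.root (a : ι)) := hΔ.linInd
  have hdet : G.det ≠ 0 := by
    intro h0
    obtain ⟨x, hx, hGx⟩ := Matrix.exists_mulVec_eq_zero_iff.2 h0
    set v : M := ∑ a : ↥Δ, x a • P.root (a : ι) with hv
    have hvspan : v ∈ P.rootSpan ℤ :=
      Submodule.sum_mem _ fun a _ => Submodule.smul_mem _ _ (Submodule.subset_span ⟨_, rfl⟩)
    have hv0 : v ≠ 0 := by
      intro h0
      exact hx (funext (Fintype.linearIndependent_iff.1 hli x h0))
    have h1 : ∀ a : Δ, P.RootForm (P.root a) v = 0 := by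
      intro a
      have := congrFun hGx a
      rw [hv, map_sum]
      simp only [map_smul, smul_eq_mul]
      rw [← show (Matrix.mulVec G x) a = 0 from this, Matrix.mulVec, dotProduct]
      exact Finset.sum_congr rfl fun b _ => mul_comm _ _
    have h2 : P.RootForm v v = 0 := by
      have h3 : P.RootForm v v = P.RootForm v (∑ a : ↥Δ, x a • P.root (a : ι)) := by rw [← hv]
      rw [h3, map_sum]
      refine Finset.sum_eq_zero fun a _ => ?_
      rw [map_smul, form_symm, h1, smul_zero]
    exact (P.rootForm_pos_of_ne_zero hvspan hv0).ne' h2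
  set v : M := ∑ a : ↥Δ, G.adjugate a ⟨i, hi⟩ • P.root (a : ι) with hv
  have h1 : ∀ b : Δ, P.RootForm (P.root b) v = if b = ⟨i, hi⟩ then G.det else 0 := by
    intro b
    rw [hv, map_sum]
    have h2 := congrFun (congrFun (Matrix.mul_adjugate G) b) ⟨i, hi⟩
    rw [Matrix.mul_apply] at h2
    simp only [map_smul, smul_eq_mul]
    rw [Finset.sum_congr rfl fun a _ => mul_comm _ _]
    refine Eq.trans h2 ?_
    rw [Matrix.smul_apply, Matrix.one_apply, smul_eq_mul, mul_ite, mul_one, mul_zero]
  have key : ∀ j ∈ Δ, P.RootForm (P.root j) (P.root j) * P.coroot' j v =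
      2 * if j = i then G.det else 0 := by
    intro j hj
    rw [← two_mul_form, h1 ⟨j, hj⟩]
    simp only [Subtype.mk.injEq]
  have hzero : ∀ j ∈ Δ, j ≠ i → P.coroot' j v = 0 := by
    intro j hj hji
    have := key j hj
    rw [if_neg hji, mul_zero] at this
    exact (mul_eq_zero.1 this).resolve_left (form_root_pos P j).ne'
  have hne : P.coroot' i v ≠ 0 := by
    intro h0
    have := key i hi
    rw [if_pos rfl, h0, mul_zero] at this
    omega
  rcases lt_or_gt_of_ne hne with h | h
  · exact ⟨-v, fun j hj hji => by rw [map_neg, hzero j hj hji, neg_zero], by rw [map_neg]; omega⟩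
  · exact ⟨v, hzero, h⟩

end Weight

end K222.Dom
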