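import Mathlib.LinearAlgebra.RootSystem.Base
import Mathlib.LinearAlgebra.RootSystem.Finite.Nondegenerate

/-!
# A peeling lemma for Cartan matrices

In every non-empty set `S` of simple roots there is `j` with `∑_{i ∈ S} ⟨α_j, α_i^∨⟩ > 0`; so `α_j` has at
most one neighbour `i` in `S` and then `⟨α_j, α_i^∨⟩ = -1`.
-/

set_option autoImplicit false

namespace K222.Forest

variable {ι R M N : Type*} [CommRing R] [IsDomain R] [CharZero R]
    [AddCommGroup M] [Module R M] [AddCommGroup N] [Module R N] (P : RootPairing ι R M N)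
    [Finite ι] [P.IsCrystallographic]

/-- In a finite non-empty set of linearly independent roots some `j` has `∑_{i ∈ S} ⟨α_i, α_j^∨⟩ > 0`. -/
theorem exists_sum_pos {S : Finset ι} (hS : S.Nonempty) (hli : LinearIndepOn ℤ P.root (S : Set ι)) :
    ∃ j ∈ S, 0 < ∑ i ∈ S, P.pairingIn ℤ i j := by
  classical
  let := Fintype.ofFinite ι
  by_contra hcon
  push Not at hcon
  set B := (P.posRootForm ℤ).posForm with hB
  have key : ∀ i j, 2 * B (P.rootSpanMem ℤ i) (P.rootSpanMem ℤ j) =
      P.pairingIn ℤ i j * B (P.rootSpanMem ℤ j) (P.rootSpanMem ℤ j) := by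
    intro i j
    apply FaithfulSMul.algebraMap_injective ℤ R
    rw [map_mul, map_mul, map_ofNat, hB, RootPairing.RootPositiveForm.algebraMap_posForm,
      RootPairing.RootPositiveForm.algebraMap_posForm, P.algebraMap_pairingIn]
    exact (P.posRootForm ℤ).toInvariantForm.two_mul_apply_root_root i j
  set v : P.rootSpan ℤ := ∑ i ∈ S, P.rootSpanMem ℤ i with hv
  have hv0 : v ≠ 0 := by
    intro h0
    obtain ⟨i, hi⟩ := hS
    have h1 : ∑ i ∈ S, (1 : ℤ) • P.root i = 0 := by
      have := congrArg (Submodule.subtype _) h0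
      simpa [hv] using this
    have h2 := linearIndepOn_finset_iff.1 hli (fun _ => 1) h1 i hi
    exact one_ne_zero h2
  have h1 : 2 * B v v ≤ 0 := by
    have h2 : 2 * B v v = ∑ j ∈ S, (∑ i ∈ S, P.pairingIn ℤ i j) * B (P.rootSpanMem ℤ j) (P.rootSpanMem ℤ j) := by
      have h3 : B v v = ∑ j ∈ S, ∑ i ∈ S, B (P.rootSpanMem ℤ i) (P.rootSpanMem ℤ j) := by
        rw [hv, map_sum]
        simp only [LinearMap.sum_apply, map_sum]
      rw [h3, Finset.mul_sum]
      refine Finset.sum_congr rfl fun j _ => ?_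
      rw [Finset.mul_sum, Finset.sum_mul]
      exact Finset.sum_congr rfl fun i _ => key i j
    rw [h2]
    refine Finset.sum_nonpos fun j hj => mul_nonpos_of_nonpos_of_nonneg (hcon j hj) ?_
    exact ((P.posRootForm ℤ).zero_lt_posForm_apply_root j).le
  have h2 := P.posRootForm_posForm_pos_of_ne_zero ℤ hv0
  rw [← hB] at h2
  omega

theorem pairingIn_flip (i j : ι) : P.flip.pairingIn ℤ i j = P.pairingIn ℤ j i := by
  apply FaithfulSMul.algebraMap_injective ℤ R
  rw [RootPairing.algebraMap_pairingIn, RootPairing.algebraMap_pairingIn, RootPairing.pairing_flip]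

end K222.Forest
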