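import Mathlib.LinearAlgebra.RootSystem.Hom
import Mathlib.LinearAlgebra.RootSystem.Finite.Nondegenerate
import Mathlib.LinearAlgebra.RootSystem.Reduced

/-!
# The root lattice of a finite crystallographic root pairing, as a root pairing over `ℤ`

`K222.Lattice.latt P` has weight module the `ℤ`-span of the roots and coweight module its dual.
-/

set_option autoImplicit false

open RootPairing

namespace K222.Lattice

variable {ι R M N : Type*} [CommRing R] [IsDomain R] [CharZero R]
    [AddCommGroup M] [Module R M] [AddCommGroup N] [Module R N] (P : RootPairing ι R M N)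
    [Finite ι] [P.IsCrystallographic]

include P in
theorem isReflexive : Module.IsReflexive R M := .of_isPerfPair P.toLinearMap

include P in
theorem torsionFree : IsAddTorsionFree M :=
  have := isReflexive P
  .of_isTorsionFree R M

theorem finite_rootSpan : Module.Finite ℤ (P.rootSpan ℤ) := inferInstance

theorem free_rootSpan : Module.Free ℤ (P.rootSpan ℤ) :=
  have := torsionFree P
  inferInstance

theorem coroot'In_injective : Function.Injective (fun i => P.coroot'In ℤ i) := by
  intro i j h
  have := isReflexive P
  have h1 := LinearMap.congr_fun h (P.rootSpanMem ℤ i)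
  have h2 := LinearMap.congr_fun h (P.rootSpanMem ℤ j)
  simp only [coroot'In_rootSpanMem_eq_pairingIn, pairingIn_same] at h1 h2
  exact (P.pairingIn_two_two_iff ℤ i j).1 ⟨h1.symm, h2⟩

/-- The root lattice pairing. -/
noncomputable def latt : RootPairing ι ℤ (P.rootSpan ℤ) (Module.Dual ℤ (P.rootSpan ℤ)) where
  toLinearMap := Module.Dual.eval ℤ (P.rootSpan ℤ)
  isPerfPair_toLinearMap := by
    have := free_rootSpan P
    infer_instance
  root := ⟨fun i => P.rootSpanMem ℤ i, fun i j h => P.root.injective (congrArg Subtype.val h)⟩
  coroot := ⟨fun i => P.coroot'In ℤ i, coroot'In_injective P⟩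
  root_coroot_two i := by
    change P.coroot'In ℤ i (P.rootSpanMem ℤ i) = 2
    simp
  reflectionPerm := P.reflectionPerm
  reflectionPerm_root i j := by
    change P.rootSpanMem ℤ j - P.coroot'In ℤ i (P.rootSpanMem ℤ j) • P.rootSpanMem ℤ i =
      P.rootSpanMem ℤ (P.reflectionPerm i j)
    apply Subtype.ext
    change P.root j - P.pairingIn ℤ j i • P.root i = P.root (P.reflectionPerm i j)
    rw [P.root_reflectionPerm, P.reflection_apply_root' ℤ]
  reflectionPerm_coroot i j := by
    change P.coroot'In ℤ j - P.coroot'In ℤ j (P.rootSpanMem ℤ i) • P.coroot'In ℤ i =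
      P.coroot'In ℤ (P.reflectionPerm i j)
    ext x
    apply FaithfulSMul.algebraMap_injective ℤ R
    rw [P.coroot'In_rootSpanMem_eq_pairingIn, LinearMap.sub_apply, LinearMap.smul_apply, map_sub, smul_eq_mul,
      map_mul, P.algebraMap_coroot'In_apply, P.algebraMap_coroot'In_apply, P.algebraMap_coroot'In_apply,
      P.algebraMap_pairingIn, coroot', coroot', coroot', P.coroot_reflectionPerm, P.coreflection_apply_coroot,
      map_sub, map_smul]
    rfl

@[simp] theorem latt_root_coe (i : ι) : ((latt P).root i : M) = P.root i := rfl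

theorem latt_root (i : ι) : (latt P).root i = P.rootSpanMem ℤ i := rfl

theorem latt_coroot (i : ι) : (latt P).coroot i = P.coroot'In ℤ i := rfl

@[simp] theorem latt_reflectionPerm (i : ι) : (latt P).reflectionPerm i = P.reflectionPerm i := rfl

theorem latt_toLinearMap (x : P.rootSpan ℤ) (y : Module.Dual ℤ (P.rootSpan ℤ)) :
    (latt P).toLinearMap x y = y x := rfl

@[simp] theorem latt_pairing (i j : ι) : (latt P).pairing i j = P.pairingIn ℤ i j := by
  change P.coroot'In ℤ j (P.rootSpanMem ℤ i) = _
  simp

end K222.Lattice
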