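import Mathlib.LinearAlgebra.RootSystem.Base
import Mathlib.LinearAlgebra.QuadraticForm.Basic

/-!
# Quadratic forms on the coweight module and root reflections

`inv_iff`: invariance of a quadratic form under a coreflection, on a submodule containing the coroot,
is equivalent to the identity `B(y, α^∨) = ⟨α, y⟩ Q(α^∨)`.
-/

set_option autoImplicit false

namespace K222.Quad

variable {ι R M N : Type*} [CommRing R] [AddCommGroup M] [Module R M] [AddCommGroup N] [Module R N]
  (P : RootPairing ι R M N) (Q : QuadraticMap R N R)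

theorem key (j : ι) (y : N) : Q (P.coreflection j y) = Q y + P.root' j y * P.root' j y * Q (P.coroot j)
      - P.root' j y * QuadraticMap.polar Q y (P.coroot j) := by
  rw [P.coreflection_apply, sub_eq_add_neg, ← neg_smul, QuadraticMap.map_add Q, QuadraticMap.map_smul,
    QuadraticMap.polar_smul_right]
  simp only [smul_eq_mul]
  ring

theorem inv_of {j : ι} {y : N} (h : QuadraticMap.polar Q y (P.coroot j) = P.root' j y * Q (P.coroot j)) :
    Q (P.coreflection j y) = Q y := by
  rw [key, h]; ring

theorem polar_of_inv [IsDomain R] [CharZero R] {j : ι} (D : Submodule R N) (hD : P.coroot j ∈ D)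
    (h : ∀ y ∈ D, Q (P.coreflection j y) = Q y) {y : N} (hy : y ∈ D) :
    QuadraticMap.polar Q y (P.coroot j) = P.root' j y * Q (P.coroot j) := by
  have h1 : ∀ y ∈ D, P.root' j y ≠ 0 →
      QuadraticMap.polar Q y (P.coroot j) = P.root' j y * Q (P.coroot j) := by
    intro y hyD hy
    have h2 := key P Q j y
    rw [h y hyD] at h2
    apply mul_left_cancel₀ hy
    linear_combination h2
  by_cases hy0 : P.root' j y = 0
  · have h3 : P.root' j (y + P.coroot j) = 2 := by
      rw [map_add, hy0, P.root'_coroot_eq_pairing, P.pairing_same, zero_add]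
    have h4 := h1 (y + P.coroot j) (D.add_mem hy hD) (by rw [h3]; exact two_ne_zero)
    rw [h3, QuadraticMap.polar_add_left, QuadraticMap.polar_self] at h4
    rw [hy0, zero_mul]
    simp only [nsmul_eq_mul, Nat.cast_ofNat] at h4
    linear_combination h4
  · exact h1 y hy hy0

theorem inv_iff [IsDomain R] [CharZero R] (j : ι) (D : Submodule R N) (hD : P.coroot j ∈ D) :
    (∀ y ∈ D, Q (P.coreflection j y) = Q y) ↔
      ∀ y ∈ D, QuadraticMap.polar Q y (P.coroot j) = P.root' j y * Q (P.coroot j) :=
  ⟨fun h _ hy => polar_of_inv P Q D hD h hy, fun h y hy => inv_of P Q (h y hy)⟩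

theorem inv_iff_top [IsDomain R] [CharZero R] (j : ι) :
    (∀ y : N, Q (P.coreflection j y) = Q y) ↔
      ∀ y : N, QuadraticMap.polar Q y (P.coroot j) = P.root' j y * Q (P.coroot j) := by
  simpa using inv_iff P Q j ⊤ trivial

end K222.Quad
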