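import Groth.Agent.RootD.K222.Simple

/-!
# Words in the simple reflections of a simple system (non-reduced pairings allowed)
-/

set_option autoImplicit false

open RootPairing Groth.Agent.Sga3A.Weyl K222.Simple

namespace K222.Words

variable {ι M N : Type*} [AddCommGroup M] [AddCommGroup N] (P : RootPairing ι ℤ M N)

/-- The product of the reflections of a word. -/
noncomputable def wd (l : List ι) : P.Aut := (l.map fun a => Equiv.reflection P a).prod

@[simp] theorem wd_nil : wd P [] = 1 := rfl

@[simp] theorem wd_cons (a : ι) (l : List ι) : wd P (a :: l) = Equiv.reflection P a * wd P l := by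
  simp [wd]

@[simp] theorem wd_append (l l' : List ι) : wd P (l ++ l') = wd P l * wd P l' := by
  simp [wd]

theorem wd_reverse (l : List ι) : wd P l.reverse = (wd P l)⁻¹ := by
  induction l with
  | nil => simp
  | cons a l ih =>
    rw [List.reverse_cons, wd_append, ih, wd_cons, wd_cons, wd_nil, mul_one, mul_inv_rev, Equiv.reflection_inv]

theorem wd_mem (l : List ι) : wd P l ∈ P.weylGroup := by
  induction l with
  | nil => exact one_mem _
  | cons a l ih => rw [wd_cons]; exact mul_mem (P.reflection_mem_weylGroup a) ih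

variable {P} {Δ : Set ι} (hΔ : RootD.IsSimpleSys P Δ) [Finite ι]

include hΔ

theorem exists_word {w : P.Aut} (hw : w ∈ P.weylGroup) : ∃ l : List ι, (∀ a ∈ l, a ∈ Δ) ∧ wd P l = w := by
  rw [← closure_simple hΔ] at hw
  induction hw using Subgroup.closure_induction with
  | mem x hx =>
    obtain ⟨j, hj, rfl⟩ := hx
    exact ⟨[j], by simpa using hj, by simp⟩
  | one => exact ⟨[], by simp, rfl⟩
  | mul x y _ _ hx hy =>
    obtain ⟨l, hl, rfl⟩ := hx
    obtain ⟨l', hl', rfl⟩ := hy
    refine ⟨l ++ l', ?_, by simp⟩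
    intro a ha
    rcases List.mem_append.1 ha with h | h
    · exact hl a h
    · exact hl' a h
  | inv x _ hx =>
    obtain ⟨l, hl, rfl⟩ := hx
    exact ⟨l.reverse, fun a ha => hl a (List.mem_reverse.1 ha), wd_reverse P l⟩

/-- Exchange: if `w = s_{a_1} ⋯ s_{a_m}` maps the simple root `j` to a negative root, then `w s_j` is a
product of `m - 1` simple reflections. -/
theorem exch {j : ι} (hj : j ∈ Δ) (l : List ι) (hl : ∀ a ∈ l, a ∈ Δ)
    (h : wd P l • j ∉ RootD.posOf P Δ) :
    ∃ l' : List ι, (∀ a ∈ l', a ∈ Δ) ∧ l'.length + 1 = l.length ∧ wd P l * Equiv.reflection P j = wd P l' := by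
  induction l with
  | nil =>
    exfalso
    apply h
    rw [wd_nil, one_smul]
    exact simple_mem_posOf hj
  | cons c l ih =>
    have hc : c ∈ Δ := hl c (by simp)
    have hl' : ∀ a ∈ l, a ∈ Δ := fun a ha => hl a (by simp [ha])
    by_cases hp : wd P l • j ∈ RootD.posOf P Δ
    · refine ⟨l, hl', by simp, ?_⟩
      rw [wd_cons, mul_smul, reflection_smul_idx] at h
      have h1 : wd P l • j = c := by
        rcases (reflection_notMem_iff hΔ hc hp).1 h with h1 | h1
        · exact h1
        · exact absurd h1.symm ((isIndiv_smul P _ j).2 (isIndiv_simple hΔ hj) c)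
      rw [wd_cons, mul_assoc, mul_reflection, h1, ← mul_assoc, reflection_mul_self, one_mul]
    · obtain ⟨l', h1, h2, h3⟩ := ih hl' hp
      refine ⟨c :: l', ?_, by simp [h2], ?_⟩
      · intro a ha
        rcases List.mem_cons.1 ha with rfl | ha
        · exact hc
        · exact h1 a ha
      · rw [wd_cons, mul_assoc, h3, wd_cons]

/-- The last letter of a minimal word is made negative. -/
theorem last_neg {l : List ι} {j : ι} (hl : ∀ a ∈ l, a ∈ Δ) (hj : j ∈ Δ)
    (hmin : ∀ l' : List ι, (∀ a ∈ l', a ∈ Δ) → wd P l' = wd P (l ++ [j]) → (l ++ [j]).length ≤ l'.length) :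
    wd P l • j ∈ RootD.posOf P Δ := by
  by_contra h
  obtain ⟨l', h1, h2, h3⟩ := exch hΔ hj l hl h
  have := hmin l' h1 (by rw [← h3]; simp)
  simp at this
  omega

/-- An induction principle for the Weyl group: to go from `w` to `w s_j` one may assume that `w` maps the
simple root `j` to a positive root. -/
theorem weyl_induction {p : P.Aut → Prop} (h1 : p 1)
    (hs : ∀ w ∈ P.weylGroup, ∀ j ∈ Δ, w • j ∈ RootD.posOf P Δ → p w → p (w * Equiv.reflection P j))
    {w : P.Aut} (hw : w ∈ P.weylGroup) : p w := by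
  obtain ⟨l, hl, rfl⟩ := exists_word hΔ hw
  clear hw
  obtain ⟨n, hn⟩ : ∃ n, l.length = n := ⟨_, rfl⟩
  induction n using Nat.strong_induction_on generalizing l with
  | _ n ih =>
    rcases List.eq_nil_or_concat l with rfl | ⟨l₀, j, rfl⟩
    · exact h1
    · rw [List.concat_eq_append] at hl hn ⊢
      have hj : j ∈ Δ := hl j (by simp)
      have hl₀ : ∀ a ∈ l₀, a ∈ Δ := fun a ha => hl a (by simp [ha])
      have hlen : l₀.length + 1 = n := by simpa using hn
      rw [wd_append, wd_cons, wd_nil, mul_one]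
      by_cases hp : wd P l₀ • j ∈ RootD.posOf P Δ
      · exact hs _ (wd_mem P l₀) j hj hp (ih l₀.length (by omega) l₀ hl₀ rfl)
      · obtain ⟨l', h2, h3, h4⟩ := exch hΔ hj l₀ hl₀ hp
        rw [h4]
        exact ih l'.length (by omega) l' h2 rfl

theorem smul_neg_notMem (w : P.Aut) {j : ι} (hp : w • j ∈ RootD.posOf P Δ) :
    (w * Equiv.reflection P j) • j ∉ RootD.posOf P Δ := by
  rw [mul_smul, reflection_smul_idx, smul_neg_idx]
  exact neg_notMem_posOf hΔ hp

/-- A Weyl group element mapping the simple roots to positive roots is trivial. -/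
theorem eq_one_of_simple_pos {w : P.Aut} (hw : w ∈ P.weylGroup) (h : ∀ j ∈ Δ, w • j ∈ RootD.posOf P Δ) :
    w = 1 := by
  refine weyl_induction hΔ (p := fun w => (∀ j ∈ Δ, w • j ∈ RootD.posOf P Δ) → w = 1)
    (fun _ => rfl) ?_ hw h
  intro w _ j hj hp _ h
  exact absurd (h j hj) (smul_neg_notMem hΔ w hp)

/-- Every "sign condition" can be made non-negative on a simple system by a Weyl group element. -/
theorem exists_avoid (A : Set ι) (hneg : ∀ i ∈ A, P.reflectionPerm i i ∉ A)
    (hmul : ∀ i j, i ∈ A → P.root j = (2 : ℤ) • P.root i → j ∈ A) :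
    ∃ g ∈ P.weylGroup, ∀ j ∈ Δ, g • j ∉ A := by
  suffices H : ∀ n, ∀ g ∈ P.weylGroup, {k | k ∈ RootD.posOf P Δ ∧ g • k ∈ A}.ncard = n →
      ∃ g ∈ P.weylGroup, ∀ j ∈ Δ, g • j ∉ A from H _ 1 (one_mem _) rfl
  intro n
  induction n using Nat.strong_induction_on with
  | _ n ih =>
    intro g hg hn
    by_cases hall : ∀ j ∈ Δ, g • j ∉ A
    · exact ⟨g, hg, hall⟩
    push Not at hall
    obtain ⟨j, hj, hjA⟩ := hall
    refine ih _ ?_ (g * Equiv.reflection P j) (mul_mem hg (P.reflection_mem_weylGroup j)) rfl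
    rw [← hn, ← Set.ncard_image_of_injective _ (MulAction.injective (Equiv.reflection P j))]
    apply Set.ncard_lt_ncard _ (Set.toFinite _)
    rw [Set.ssubset_iff_of_subset]
    · refine ⟨j, ⟨simple_mem_posOf hj, hjA⟩, ?_⟩
      rintro ⟨k, ⟨hk, -⟩, e⟩
      have e' : k = P.reflectionPerm j j := by
        have := congrArg (P.reflectionPerm j) (show P.reflectionPerm j k = j from e)
        rwa [P.reflectionPerm_self] at this
      rw [e'] at hk
      exact neg_notMem_posOf hΔ (simple_mem_posOf hj) hk
    · rintro _ ⟨k, ⟨hk, hkA⟩, rfl⟩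
      rw [mul_smul] at hkA
      refine ⟨?_, hkA⟩
      by_contra hcon
      change P.reflectionPerm j k ∉ RootD.posOf P Δ at hcon
      rw [reflection_notMem_iff hΔ hj hk] at hcon
      have hgk : g • k ∈ A := by
        rcases hcon with rfl | h
        · exact hjA
        · refine hmul (g • j) (g • k) hjA ?_
          rw [root_smul, h, root_smul, smul_comm]
      have hneg' : Equiv.reflection P j • k = P.reflectionPerm k k := by
        rcases hcon with rfl | h
        · rfl
        · rw [← reflection_eq_of_root_eq P h]; rfl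
      rw [hneg', smul_neg_idx] at hkA
      exact hneg _ hgk hkA

end K222.Words
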